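import Mathlib

/-!
# Abstract rank-one computations (SGA 3 XX §2–3)

A group `Γ` with two additive one-parameter subgroups `pp, pm : R → Γ` normalised by a "torus"
`i : Tg →* Γ` through a character `α : Tg →* Rˣ` and its inverse, a "coroot" `av : Rˣ →* Tg` with
`α ∘ av = (·)²`, and the commutation rule
`pp x * pm y = pm (y / (1 + x y)) * i (av (1 + x y)) * pp (x / (1 + x y))`.
-/

namespace Groth.Agent.Lib.Helper6.RankOne

/-- Abstract rank-one data. -/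
structure Data (Γ R Tg : Type*) [Group Γ] [CommRing R] [Group Tg] where
  pp : R → Γ
  pm : R → Γ
  i : Tg →* Γ
  α : Tg →* Rˣ
  av : Rˣ →* Tg
  pp_add : ∀ x y, pp (x + y) = pp x * pp y
  pm_add : ∀ x y, pm (x + y) = pm x * pm y
  npp : ∀ t x, i t * pp x * (i t)⁻¹ = pp ((α t : R) * x)
  npm : ∀ t y, i t * pm y * (i t)⁻¹ = pm ((((α t)⁻¹ : Rˣ) : R) * y)
  sq : ∀ z, α (av z) = z ^ 2
  F : ∀ (x y : R) (u : Rˣ), (u : R) = 1 + x * y →
    pp x * pm y = pm (y * ((u⁻¹ : Rˣ) : R)) * i (av u) * pp (x * ((u⁻¹ : Rˣ) : R))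

namespace Data

variable {Γ R Tg : Type*} [Group Γ] [CommRing R] [Group Tg] (D : Data Γ R Tg)

/-- The coroot in `Γ`. -/
def a (u : Rˣ) : Γ := D.i (D.av u)

lemma a_mul (u v : Rˣ) : D.a (u * v) = D.a u * D.a v := by
  unfold a; rw [map_mul, map_mul]

lemma a_one : D.a 1 = 1 := by
  unfold a; rw [map_one, map_one]

lemma a_inv (u : Rˣ) : D.a u⁻¹ = (D.a u)⁻¹ := by
  unfold a; rw [map_inv, map_inv]

lemma pp_zero : D.pp 0 = 1 := by
  have h := D.pp_add 0 0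
  rw [add_zero] at h
  exact left_eq_mul.mp h

lemma pm_zero : D.pm 0 = 1 := by
  have h := D.pm_add 0 0
  rw [add_zero] at h
  exact left_eq_mul.mp h

lemma pp_neg (x : R) : D.pp (-x) = (D.pp x)⁻¹ := by
  have h := D.pp_add (-x) x
  rw [neg_add_cancel, pp_zero] at h
  exact eq_inv_of_mul_eq_one_left h.symm

lemma pm_neg (x : R) : D.pm (-x) = (D.pm x)⁻¹ := by
  have h := D.pm_add (-x) x
  rw [neg_add_cancel, pm_zero] at h
  exact eq_inv_of_mul_eq_one_left h.symm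

/-- Moving a torus element to the right past `pp`. -/
lemma i_pp (t : Tg) (x : R) : D.i t * D.pp x = D.pp ((D.α t : R) * x) * D.i t := by
  rw [← D.npp t x]; group

lemma i_pm (t : Tg) (y : R) : D.i t * D.pm y = D.pm ((((D.α t)⁻¹ : Rˣ) : R) * y) * D.i t := by
  rw [← D.npm t y]; group

/-- Moving a torus element to the left past `pp`. -/
lemma pp_i (t : Tg) (x : R) : D.pp x * D.i t = D.i t * D.pp ((((D.α t)⁻¹ : Rˣ) : R) * x) := by
  rw [D.i_pp, ← mul_assoc, Units.mul_inv, one_mul]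

lemma pm_i (t : Tg) (y : R) : D.pm y * D.i t = D.i t * D.pm ((D.α t : R) * y) := by
  rw [D.i_pm, ← mul_assoc, Units.inv_mul, one_mul]

lemma a_pp (u : Rˣ) (x : R) : D.a u * D.pp x = D.pp ((u : R) ^ 2 * x) * D.a u := by
  unfold a
  rw [D.i_pp, D.sq]
  rfl

lemma a_pm (u : Rˣ) (y : R) : D.a u * D.pm y = D.pm (((u⁻¹ : Rˣ) : R) ^ 2 * y) * D.a u := by
  unfold a
  rw [D.i_pm, D.sq, ← inv_pow]
  rfl

lemma pp_a (u : Rˣ) (x : R) : D.pp x * D.a u = D.a u * D.pp (((u⁻¹ : Rˣ) : R) ^ 2 * x) := by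
  rw [D.a_pp, ← mul_assoc, ← mul_pow, Units.mul_inv, one_pow, one_mul]

lemma pm_a (u : Rˣ) (y : R) : D.pm y * D.a u = D.a u * D.pm ((u : R) ^ 2 * y) := by
  rw [D.a_pm, ← mul_assoc, ← mul_pow, Units.inv_mul, one_pow, one_mul]

/-- The commutation rule in terms of `a`. -/
lemma F' (x y : R) (u : Rˣ) (h : (u : R) = 1 + x * y) :
    D.pp x * D.pm y = D.pm (y * ((u⁻¹ : Rˣ) : R)) * D.a u * D.pp (x * ((u⁻¹ : Rˣ) : R)) :=
  D.F x y u h

/-- The commutation rule for the opposite root. -/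
theorem opp (x y : R) (u : Rˣ) (h : (u : R) = 1 + x * y) :
    D.pm y * D.pp x = D.pp (x * ((u⁻¹ : Rˣ) : R)) * (D.a u)⁻¹ * D.pm (y * ((u⁻¹ : Rˣ) : R)) := by
  have hF := D.F' (-x) (-y) u (by rw [h]; ring)
  have h2 := congrArg (fun g : Γ => g⁻¹) hF
  simp only [mul_inv_rev, neg_mul, D.pp_neg, D.pm_neg, inv_inv] at h2
  rw [h2, mul_assoc]

/-- The coroot expressed through the root groups. -/
theorem coroot (z : Rˣ) :
    D.a z = D.pm (((z⁻¹ : Rˣ) : R) - 1) * D.pp 1 * D.pm ((z : R) - 1) *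
      D.pp (-((z⁻¹ : Rˣ) : R)) := by
  have hF := D.F' 1 ((z : R) - 1) z (by ring)
  rw [mul_assoc (D.pm _), hF, one_mul]
  have e1 : D.pm (((z⁻¹ : Rˣ) : R) - 1) * (D.pm (((z : R) - 1) * ((z⁻¹ : Rˣ) : R)) * D.a z *
      D.pp ((z⁻¹ : Rˣ) : R)) * D.pp (-((z⁻¹ : Rˣ) : R)) =
      (D.pm (((z⁻¹ : Rˣ) : R) - 1) * D.pm (((z : R) - 1) * ((z⁻¹ : Rˣ) : R))) * D.a z *
      (D.pp ((z⁻¹ : Rˣ) : R) * D.pp (-((z⁻¹ : Rˣ) : R))) := by group
  rw [e1, ← D.pm_add, ← D.pp_add, add_neg_cancel, D.pp_zero, mul_one]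
  have : ((z⁻¹ : Rˣ) : R) - 1 + ((z : R) - 1) * ((z⁻¹ : Rˣ) : R) = 0 := by
    rw [sub_mul, Units.mul_inv]; ring
  rw [this, D.pm_zero, one_mul]

/-- The product of two elements of the big cell. -/
theorem cell_mul (x y x' y' : R) (t t' : Tg) (u : Rˣ) (h : (u : R) = 1 + x * y') :
    (D.pm y * D.i t * D.pp x) * (D.pm y' * D.i t' * D.pp x') =
      D.pm (y + y' * ((u⁻¹ : Rˣ) : R) * (((D.α t)⁻¹ : Rˣ) : R)) * D.i (t * D.av u * t') *
        D.pp (x * ((u⁻¹ : Rˣ) : R) * (((D.α t')⁻¹ : Rˣ) : R) + x') := by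
  have hF := D.F x y' u h
  have e1 : (D.pm y * D.i t * D.pp x) * (D.pm y' * D.i t' * D.pp x') =
      D.pm y * D.i t * (D.pp x * D.pm y') * D.i t' * D.pp x' := by group
  rw [e1, hF]
  have e2 : D.pm y * D.i t * (D.pm (y' * ((u⁻¹ : Rˣ) : R)) * D.i (D.av u) *
      D.pp (x * ((u⁻¹ : Rˣ) : R))) * D.i t' * D.pp x' =
      D.pm y * (D.i t * D.pm (y' * ((u⁻¹ : Rˣ) : R))) * D.i (D.av u) *
      (D.pp (x * ((u⁻¹ : Rˣ) : R)) * D.i t') * D.pp x' := by group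
  rw [e2, D.i_pm, D.pp_i]
  have e3 : D.pm y * (D.pm ((((D.α t)⁻¹ : Rˣ) : R) * (y' * ((u⁻¹ : Rˣ) : R))) * D.i t) *
      D.i (D.av u) * (D.i t' * D.pp ((((D.α t')⁻¹ : Rˣ) : R) * (x * ((u⁻¹ : Rˣ) : R)))) * D.pp x' =
      (D.pm y * D.pm ((((D.α t)⁻¹ : Rˣ) : R) * (y' * ((u⁻¹ : Rˣ) : R)))) *
      (D.i t * D.i (D.av u) * D.i t') *
      (D.pp ((((D.α t')⁻¹ : Rˣ) : R) * (x * ((u⁻¹ : Rˣ) : R))) * D.pp x') := by group
  rw [e3, ← D.pm_add, ← D.pp_add, ← map_mul, ← map_mul]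
  congr 3 <;> ring

end Data

end Groth.Agent.Lib.Helper6.RankOne
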