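import Mathlib
import Groth.Agent.Lib.Helper6.RankOne.Abstract

/-!
# The Weyl element `w(x) = p₊(x) p₋(-x⁻¹) p₊(x)` in abstract rank-one data
-/

namespace Groth.Agent.Lib.Helper6.RankOne

namespace Data

variable {Γ R Tg : Type*} [Group Γ] [CommRing R] [Group Tg] (D : Data Γ R Tg)

/-- The Weyl element. -/
def w (x : Rˣ) : Γ := D.pp (x : R) * D.pm (-((x⁻¹ : Rˣ) : R)) * D.pp (x : R)

lemma w_inv (x : Rˣ) :
    (D.w x)⁻¹ = D.pp (-(x : R)) * D.pm (((x⁻¹ : Rˣ) : R)) * D.pp (-(x : R)) := by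
  unfold w
  rw [D.pp_neg, mul_inv_rev, mul_inv_rev, D.pm_neg, inv_inv, mul_assoc]

/-- `w(x)` normalises the torus. -/
theorem w_norm (x : Rˣ) (t : Tg) :
    D.w x * D.i t * (D.w x)⁻¹ = (D.a (D.α t))⁻¹ * D.i t := by
  obtain ⟨c, hc⟩ : ∃ c : Rˣ, c = D.α t := ⟨_, rfl⟩
  rw [w_inv]
  unfold w
  have e1 : D.pp (x : R) * D.pm (-((x⁻¹ : Rˣ) : R)) * D.pp (x : R) * D.i t *
      (D.pp (-(x : R)) * D.pm (((x⁻¹ : Rˣ) : R)) * D.pp (-(x : R))) =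
      D.pp (x : R) * D.pm (-((x⁻¹ : Rˣ) : R)) * D.pp (x : R) *
      (D.i t * D.pp (-(x : R))) * D.pm (((x⁻¹ : Rˣ) : R)) * D.pp (-(x : R)) := by group
  rw [e1, D.i_pp]
  have e2 : D.pp (x : R) * D.pm (-((x⁻¹ : Rˣ) : R)) * D.pp (x : R) *
      (D.pp ((D.α t : R) * -(x : R)) * D.i t) * D.pm (((x⁻¹ : Rˣ) : R)) * D.pp (-(x : R)) =
      D.pp (x : R) * D.pm (-((x⁻¹ : Rˣ) : R)) * (D.pp (x : R) *
      D.pp ((D.α t : R) * -(x : R))) * (D.i t * D.pm (((x⁻¹ : Rˣ) : R))) * D.pp (-(x : R)) := by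
    group
  rw [e2, D.i_pm, ← D.pp_add]
  have e3 : D.pp (x : R) * D.pm (-((x⁻¹ : Rˣ) : R)) * D.pp ((x : R) + (D.α t : R) * -(x : R)) *
      (D.pm ((((D.α t)⁻¹ : Rˣ) : R) * ((x⁻¹ : Rˣ) : R)) * D.i t) * D.pp (-(x : R)) =
      D.pp (x : R) * D.pm (-((x⁻¹ : Rˣ) : R)) * (D.pp ((x : R) + (D.α t : R) * -(x : R)) *
      D.pm ((((D.α t)⁻¹ : Rˣ) : R) * ((x⁻¹ : Rˣ) : R))) * (D.i t * D.pp (-(x : R))) := by group
  rw [e3, D.i_pp, ← hc]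
  have hF := D.F' ((x : R) + (c : R) * -(x : R)) (((c⁻¹ : Rˣ) : R) * ((x⁻¹ : Rˣ) : R)) c⁻¹ (by
    have h1 : (x : R) * ((x⁻¹ : Rˣ) : R) = 1 := Units.mul_inv x
    have h2 : (c : R) * ((c⁻¹ : Rˣ) : R) = 1 := Units.mul_inv c
    linear_combination (-((c⁻¹ : Rˣ) : R) + (c : R) * ((c⁻¹ : Rˣ) : R)) * h1 + h2)
  rw [hF, inv_inv]
  have e4 : D.pp (x : R) * D.pm (-((x⁻¹ : Rˣ) : R)) *
      (D.pm (((c⁻¹ : Rˣ) : R) * ((x⁻¹ : Rˣ) : R) * (c : R)) * D.a c⁻¹ *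
        D.pp (((x : R) + (c : R) * -(x : R)) * (c : R))) * (D.pp ((c : R) * -(x : R)) * D.i t) =
      D.pp (x : R) * (D.pm (-((x⁻¹ : Rˣ) : R)) *
      D.pm (((c⁻¹ : Rˣ) : R) * ((x⁻¹ : Rˣ) : R) * (c : R))) * D.a c⁻¹ *
        (D.pp (((x : R) + (c : R) * -(x : R)) * (c : R)) * D.pp ((c : R) * -(x : R))) * D.i t := by
    group
  rw [e4, ← D.pm_add, ← D.pp_add]
  have h0 : -((x⁻¹ : Rˣ) : R) + ((c⁻¹ : Rˣ) : R) * ((x⁻¹ : Rˣ) : R) * (c : R) = 0 := by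
    have h2 : ((c⁻¹ : Rˣ) : R) * (c : R) = 1 := Units.inv_mul c
    linear_combination ((x⁻¹ : Rˣ) : R) * h2
  rw [h0, D.pm_zero, mul_one, D.pp_a, inv_inv, mul_assoc (D.a c⁻¹), ← D.pp_add]
  have h1 : (c : R) ^ 2 * (x : R) + (((x : R) + (c : R) * -(x : R)) * (c : R) + (c : R) * -(x : R)) =
      0 := by ring
  rw [h1, D.pp_zero, mul_one, D.a_inv]

/-- `w(zx) = α^*(z) w(x)`. -/
theorem w_mul_left (z x : Rˣ) : D.w (z * x) = D.a z * D.w x := by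
  have key : D.w (z * x) * (D.w x)⁻¹ = D.a z := by
    rw [w_inv]
    unfold w
    have e1 : D.pp ((z * x : Rˣ) : R) * D.pm (-(((z * x)⁻¹ : Rˣ) : R)) * D.pp ((z * x : Rˣ) : R) *
        (D.pp (-(x : R)) * D.pm (((x⁻¹ : Rˣ) : R)) * D.pp (-(x : R))) =
        D.pp ((z * x : Rˣ) : R) * D.pm (-(((z * x)⁻¹ : Rˣ) : R)) * ((D.pp ((z * x : Rˣ) : R) *
        D.pp (-(x : R))) * D.pm (((x⁻¹ : Rˣ) : R))) * D.pp (-(x : R)) := by group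
    rw [e1, ← D.pp_add]
    have hF := D.F' (((z * x : Rˣ) : R) + -(x : R)) (((x⁻¹ : Rˣ) : R)) z (by
      have h1 : (x : R) * ((x⁻¹ : Rˣ) : R) = 1 := Units.mul_inv x
      rw [Units.val_mul]
      linear_combination (1 - (z : R)) * h1)
    rw [hF]
    have e2 : D.pp ((z * x : Rˣ) : R) * D.pm (-(((z * x)⁻¹ : Rˣ) : R)) *
        (D.pm (((x⁻¹ : Rˣ) : R) * ((z⁻¹ : Rˣ) : R)) * D.a z *
          D.pp ((((z * x : Rˣ) : R) + -(x : R)) * ((z⁻¹ : Rˣ) : R))) * D.pp (-(x : R)) =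
        D.pp ((z * x : Rˣ) : R) * (D.pm (-(((z * x)⁻¹ : Rˣ) : R)) *
        D.pm (((x⁻¹ : Rˣ) : R) * ((z⁻¹ : Rˣ) : R))) * D.a z *
          (D.pp ((((z * x : Rˣ) : R) + -(x : R)) * ((z⁻¹ : Rˣ) : R)) * D.pp (-(x : R))) := by group
    rw [e2, ← D.pm_add, ← D.pp_add]
    have h0 : -(((z * x)⁻¹ : Rˣ) : R) + ((x⁻¹ : Rˣ) : R) * ((z⁻¹ : Rˣ) : R) = 0 := by
      rw [mul_inv_rev, Units.val_mul]; ring
    rw [h0, D.pm_zero, mul_one, D.pp_a, mul_assoc, ← D.pp_add]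
    have h1 : ((z⁻¹ : Rˣ) : R) ^ 2 * ((z * x : Rˣ) : R) +
        ((((z * x : Rˣ) : R) + -(x : R)) * ((z⁻¹ : Rˣ) : R) + -(x : R)) = 0 := by
      have h2 : ((z⁻¹ : Rˣ) : R) * (z : R) = 1 := Units.inv_mul z
      rw [Units.val_mul]
      linear_combination (((z⁻¹ : Rˣ) : R) * (x : R) + (x : R)) * h2
    rw [h1, D.pp_zero, mul_one]
  rw [← key]; group

/-- `w(x) α^*(z)⁻¹ = α^*(z) w(x)`. -/
theorem w_mul_a_inv (z x : Rˣ) : D.w x * (D.a z)⁻¹ = D.a z * D.w x := by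
  have h := D.w_norm x (D.av z⁻¹)
  rw [D.sq] at h
  have h1 : D.i (D.av z⁻¹) = (D.a z)⁻¹ := by rw [← D.a_inv]; rfl
  have h2 : (D.a (z⁻¹ ^ 2))⁻¹ = D.a z * D.a z := by
    rw [← D.a_inv, ← D.a_mul]; congr 1; rw [inv_pow, inv_inv, pow_two]
  rw [h1, h2] at h
  have h3 : D.w x * (D.a z)⁻¹ = (D.a z * D.a z * (D.a z)⁻¹) * D.w x := by
    rw [← h]; group
  rw [h3]; group

theorem w_neg (x : Rˣ) : D.w (-x) = (D.w x)⁻¹ := by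
  rw [w_inv]
  unfold w
  simp only [Units.val_neg, inv_neg, neg_neg]

theorem w_sq (x : Rˣ) : D.w x ^ 2 = D.a (-1) := by
  have h := D.w_mul_left (-1) x
  rw [neg_one_mul, D.w_neg] at h
  -- (w x)⁻¹ = a(-1) w x
  have h2 : D.a (-1) * D.a (-1) = 1 := by
    rw [← D.a_mul]
    have : (-1 : Rˣ) * -1 = 1 := by simp
    rw [this, D.a_one]
  have h3 : D.w x ^ 2 = (D.a (-1))⁻¹ := by
    rw [eq_inv_iff_mul_eq_one, pow_two]
    have : D.w x * D.w x * D.a (-1) = D.w x * (D.w x * D.a (-1) * D.w x) * (D.w x)⁻¹ := by group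
    rw [this]
    have h4 : D.w x * D.a (-1) = D.a (-1) * D.w x := by
      have := D.w_mul_a_inv (-1) x
      rw [← this]
      congr 1
      exact eq_inv_of_mul_eq_one_left h2
    rw [h4, ← h]; group
  rw [h3]
  exact (eq_inv_of_mul_eq_one_left h2).symm

theorem w_mul_w (x y : Rˣ) : D.w x * D.w y = D.a (-(x * y⁻¹)) := by
  have h1 : D.w x = D.a (x * y⁻¹) * D.w y := by
    rw [← D.w_mul_left]; congr 1; group
  rw [h1, mul_assoc, ← pow_two, D.w_sq, ← D.a_mul]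
  congr 1
  rw [mul_neg, mul_one]

end Data

end Groth.Agent.Lib.Helper6.RankOne
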