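import Mathlib
import Groth.Prelude.Def_GmPts
import Groth.Agent.Lib.Helper6.GaGm.GaGrp
import Groth.Agent.Lib.Helper6.RankOne.Weyl

/-!
# Rank-one data from group schemes
-/

open CategoryTheory CategoryTheory.Limits MonoidalCategory CartesianMonoidalCategory MonObj GrpObj
  AlgebraicGeometry Opposite

namespace Groth.Agent.Lib.Helper6.RankOne

open Groth.Agent.Lib.Helper6.GaGm

universe u

noncomputable section

variable {S : Scheme.{u}} {G T : Over S} [GrpObj G] [GrpObj T] (i : T ⟶ G) [IsMonHom i]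
    (α : T ⟶ Red.Gm S) [IsMonHom α]
    (pp pm : Red.Ga S ⟶ G) [IsMonHom pp] [IsMonHom pm]
    (hpp : ∀ (X : Over S) (t : X ⟶ T) (x : X ⟶ Red.Ga S), ∃ x' : X ⟶ Red.Ga S,
      x' ≫ pp = (t ≫ i) * (x ≫ pp) * (t ≫ i)⁻¹ ∧ Red.gaFn x' = Red.gmFn (t ≫ α) * Red.gaFn x)
    (hpm : ∀ (X : Over S) (t : X ⟶ T) (y : X ⟶ Red.Ga S), ∃ y' : X ⟶ Red.Ga S,
      y' ≫ pm = (t ≫ i) * (y ≫ pm) * (t ≫ i)⁻¹ ∧ Red.gaFn y' * Red.gmFn (t ≫ α) = Red.gaFn y)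
    (av : Red.Gm S ⟶ T) [IsMonHom av] (h2 : av ≫ α = (𝟙 (Red.Gm S)) ^ 2)
    (hF : ∀ (X : Over S) (x y : X ⟶ Red.Ga S), IsUnit (1 + Red.gaFn x * Red.gaFn y) →
      ∃ (x' y' : X ⟶ Red.Ga S) (z : X ⟶ Red.Gm S), Red.gmFn z = 1 + Red.gaFn x * Red.gaFn y ∧
        Red.gaFn x' * Red.gmFn z = Red.gaFn x ∧ Red.gaFn y' * Red.gmFn z = Red.gaFn y ∧
        (x ≫ pp) * (y ≫ pm) = (y' ≫ pm) * (z ≫ av ≫ i) * (x' ≫ pp))

/-- Composition with a homomorphism, as a monoid hom on points. -/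
def compHom {A B : Over S} [GrpObj A] [GrpObj B] (f : A ⟶ B) [IsMonHom f] (X : Over S) :
    (X ⟶ A) →* (X ⟶ B) where
  toFun t := t ≫ f
  map_one' := MonObj.one_comp f
  map_mul' a b := MonObj.mul_comp a b f

lemma ptOfFn_comp_eq {X : Over S} (x : X ⟶ Red.Ga S) (r : Γ(X.left, ⊤)) (h : Red.gaFn x = r) :
    ptOfFn r = x := by
  rw [← h]; exact ptOfFn_fnOfPt x

lemma ptOfUnit_eq {X : Over S} (z : X ⟶ Red.Gm S) (v : (Γ(X.left, ⊤))ˣ) (h : Red.gmFn z = v) :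
    GmPts.ptOfUnit v = z := by
  have : GmPts.unitOfPt z = v := Units.ext h
  rw [← this, GmPts.ptOfUnit_unitOfPt]

include hpp hpm h2 hF in
/-- The abstract rank-one data of `X`-valued points. -/
def mkData (X : Over S) : Data (X ⟶ G) Γ(X.left, ⊤) (X ⟶ T) where
  pp r := ptOfFn r ≫ pp
  pm r := ptOfFn r ≫ pm
  i := compHom i X
  α := (GmPts.equiv X).toMonoidHom.comp (compHom α X)
  av := (compHom av X).comp (GmPts.equiv X).symm.toMonoidHom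
  pp_add x y := by rw [ptOfFn_add, MonObj.mul_comp]
  pm_add x y := by rw [ptOfFn_add, MonObj.mul_comp]
  npp t x := by
    obtain ⟨x', h1, h2'⟩ := hpp X t (ptOfFn x)
    change (t ≫ i) * (ptOfFn x ≫ pp) * (t ≫ i)⁻¹ = ptOfFn (Red.gmFn (t ≫ α) * x) ≫ pp
    rw [← h1]
    congr 1
    refine (ptOfFn_comp_eq x' _ ?_).symm
    rw [h2']
    congr 1
    exact fnOfPt_ptOfFn x
  npm t y := by
    obtain ⟨y', h1, h2'⟩ := hpm X t (ptOfFn y)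
    change (t ≫ i) * (ptOfFn y ≫ pm) * (t ≫ i)⁻¹ =
      ptOfFn ((((GmPts.unitOfPt (t ≫ α))⁻¹ : (Γ(X.left, ⊤))ˣ) : Γ(X.left, ⊤)) * y) ≫ pm
    rw [← h1]
    congr 1
    refine (ptOfFn_comp_eq y' _ ?_).symm
    have e : Red.gaFn (ptOfFn (S := S) (T := X) y) = y := fnOfPt_ptOfFn y
    rw [e] at h2'
    rw [← h2']
    change _ = _ * (_ * (GmPts.unitOfPt (t ≫ α) : Γ(X.left, ⊤)))
    rw [_root_.mul_comm, _root_.mul_assoc, Units.mul_inv, _root_.mul_one]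
  sq z := by
    change GmPts.unitOfPt ((GmPts.ptOfUnit z ≫ av) ≫ α) = z ^ 2
    rw [Category.assoc, h2, MonObj.comp_pow, Category.comp_id]
    have := map_pow (GmPts.equiv X) (GmPts.ptOfUnit z) 2
    rw [GmPts.equiv_apply, GmPts.equiv_apply, GmPts.unitOfPt_ptOfUnit] at this
    exact this
  F x y u hu := by
    have ex : Red.gaFn (ptOfFn (S := S) (T := X) x) = x := fnOfPt_ptOfFn x
    have ey : Red.gaFn (ptOfFn (S := S) (T := X) y) = y := fnOfPt_ptOfFn y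
    obtain ⟨x', y', z, hz, hx', hy', hmul⟩ := hF X (ptOfFn x) (ptOfFn y) (by
      rw [ex, ey, ← hu]; exact u.isUnit)
    rw [ex, ey] at hz
    rw [ex] at hx'
    rw [ey] at hy'
    change (ptOfFn x ≫ pp) * (ptOfFn y ≫ pm) =
      (ptOfFn (y * ((u⁻¹ : (Γ(X.left, ⊤))ˣ) : Γ(X.left, ⊤))) ≫ pm) *
        ((GmPts.ptOfUnit u ≫ av) ≫ i) *
        (ptOfFn (x * ((u⁻¹ : (Γ(X.left, ⊤))ˣ) : Γ(X.left, ⊤))) ≫ pp)
    rw [hmul, Category.assoc]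
    have hzu : Red.gmFn z = u := by rw [hz, hu]
    have e1 : ptOfFn (y * ((u⁻¹ : (Γ(X.left, ⊤))ˣ) : Γ(X.left, ⊤))) = y' := by
      refine ptOfFn_comp_eq y' _ ?_
      rw [← hy', hzu, _root_.mul_assoc, Units.mul_inv, _root_.mul_one]
    have e2 : ptOfFn (x * ((u⁻¹ : (Γ(X.left, ⊤))ˣ) : Γ(X.left, ⊤))) = x' := by
      refine ptOfFn_comp_eq x' _ ?_
      rw [← hx', hzu, _root_.mul_assoc, Units.mul_inv, _root_.mul_one]
    rw [e1, e2, ptOfUnit_eq z u hzu]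

variable (X : Over S)

lemma mkData_pp (x : X ⟶ Red.Ga S) :
    (mkData i α pp pm hpp hpm av h2 hF X).pp (Red.gaFn x) = x ≫ pp := by
  change ptOfFn (Red.gaFn x) ≫ pp = _
  rw [ptOfFn_comp_eq x _ rfl]

lemma mkData_pm (x : X ⟶ Red.Ga S) :
    (mkData i α pp pm hpp hpm av h2 hF X).pm (Red.gaFn x) = x ≫ pm := by
  change ptOfFn (Red.gaFn x) ≫ pm = _
  rw [ptOfFn_comp_eq x _ rfl]

lemma mkData_pp' (x : X ⟶ Red.Ga S) (r : Γ(X.left, ⊤)) (h : Red.gaFn x = r) :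
    x ≫ pp = (mkData i α pp pm hpp hpm av h2 hF X).pp r := by
  rw [← h, mkData_pp]

lemma mkData_pm' (x : X ⟶ Red.Ga S) (r : Γ(X.left, ⊤)) (h : Red.gaFn x = r) :
    x ≫ pm = (mkData i α pp pm hpp hpm av h2 hF X).pm r := by
  rw [← h, mkData_pm]

lemma mkData_i (t : X ⟶ T) : (mkData i α pp pm hpp hpm av h2 hF X).i t = t ≫ i := rfl

lemma mkData_α (t : X ⟶ T) :
    (((mkData i α pp pm hpp hpm av h2 hF X).α t : (Γ(X.left, ⊤))ˣ) : Γ(X.left, ⊤)) =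
      Red.gmFn (t ≫ α) := rfl

lemma mkData_α' (t : X ⟶ T) :
    (mkData i α pp pm hpp hpm av h2 hF X).α t = GmPts.unitOfPt (t ≫ α) := rfl

lemma mkData_av (z : X ⟶ Red.Gm S) :
    (mkData i α pp pm hpp hpm av h2 hF X).av (GmPts.unitOfPt z) = z ≫ av := by
  change GmPts.ptOfUnit (GmPts.unitOfPt z) ≫ av = _
  rw [GmPts.ptOfUnit_unitOfPt]

lemma mkData_a (z : X ⟶ Red.Gm S) :
    (mkData i α pp pm hpp hpm av h2 hF X).a (GmPts.unitOfPt z) = z ≫ av ≫ i := by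
  change (GmPts.ptOfUnit (GmPts.unitOfPt z) ≫ av) ≫ i = _
  rw [GmPts.ptOfUnit_unitOfPt, Category.assoc]

lemma mkData_a' (z : X ⟶ Red.Gm S) (v : (Γ(X.left, ⊤))ˣ) (h : Red.gmFn z = v) :
    z ≫ av ≫ i = (mkData i α pp pm hpp hpm av h2 hF X).a v := by
  have : GmPts.unitOfPt z = v := Units.ext h
  rw [← this, mkData_a]

end

end Groth.Agent.Lib.Helper6.RankOne

namespace Groth.Agent.Lib.Helper6.RankOne

open Groth.Agent.Lib.Helper6.GaGm CategoryTheory MonObj GrpObj AlgebraicGeometry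

universe u

variable {S : Scheme.{u}} {G T : Over S} [GrpObj G] [GrpObj T] (i : T ⟶ G) [IsMonHom i]
    (α : T ⟶ Red.Gm S) [IsMonHom α]
    (pp pm : Red.Ga S ⟶ G) [IsMonHom pp] [IsMonHom pm]
    (hpp : ∀ (X : Over S) (t : X ⟶ T) (x : X ⟶ Red.Ga S), ∃ x' : X ⟶ Red.Ga S,
      x' ≫ pp = (t ≫ i) * (x ≫ pp) * (t ≫ i)⁻¹ ∧ Red.gaFn x' = Red.gmFn (t ≫ α) * Red.gaFn x)
    (hpm : ∀ (X : Over S) (t : X ⟶ T) (y : X ⟶ Red.Ga S), ∃ y' : X ⟶ Red.Ga S,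
      y' ≫ pm = (t ≫ i) * (y ≫ pm) * (t ≫ i)⁻¹ ∧ Red.gaFn y' * Red.gmFn (t ≫ α) = Red.gaFn y)
    (av : Red.Gm S ⟶ T) [IsMonHom av] (h2 : av ≫ α = (𝟙 (Red.Gm S)) ^ 2)
    (hF : ∀ (X : Over S) (x y : X ⟶ Red.Ga S), IsUnit (1 + Red.gaFn x * Red.gaFn y) →
      ∃ (x' y' : X ⟶ Red.Ga S) (z : X ⟶ Red.Gm S), Red.gmFn z = 1 + Red.gaFn x * Red.gaFn y ∧
        Red.gaFn x' * Red.gmFn z = Red.gaFn x ∧ Red.gaFn y' * Red.gmFn z = Red.gaFn y ∧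
        (x ≫ pp) * (y ≫ pm) = (y' ≫ pm) * (z ≫ av ≫ i) * (x' ≫ pp))
    (X : Over S)

/-- The unit attached to `x` with `x' x = -1`. -/
def unitOf (r r' : Γ(X.left, ⊤)) (h : r' * r = -1) : (Γ(X.left, ⊤))ˣ where
  val := r
  inv := -r'
  val_inv := by rw [mul_neg, _root_.mul_comm, h, neg_neg]
  inv_val := by rw [neg_mul, h, neg_neg]

lemma w_eq (x x' : X ⟶ Red.Ga S) (hx : Red.gaFn x' * Red.gaFn x = -1) :
    (x ≫ pp) * (x' ≫ pm) * (x ≫ pp) =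
      (mkData i α pp pm hpp hpm av h2 hF X).w (unitOf X (Red.gaFn x) (Red.gaFn x') hx) := by
  unfold Data.w
  rw [mkData_pp' i α pp pm hpp hpm av h2 hF X x (Red.gaFn x) rfl,
    mkData_pm' i α pp pm hpp hpm av h2 hF X x' (Red.gaFn x') rfl]
  congr 3
  change _ = - - Red.gaFn x'
  rw [neg_neg]

end Groth.Agent.Lib.Helper6.RankOne
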